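import Mathlib

/-! Connected affine algebraic groups: infinitesimal neighbourhoods are dense. -/

universe u

open TensorProduct WithConv

noncomputable section

namespace Groth.Agent.HopfKrull

variable {k : Type u} [Field k] {A : Type u} [CommRing A] [HopfAlgebra k A]

/-- Constant map at a point, as an endomorphism. -/
abbrev cst (g : WithConv (A →ₐ[k] k)) : WithConv (A →ₐ[k] A) := toConv ((Algebra.ofId k A).comp g.ofConv)

/-- Translation by a point. -/
def tau (g : WithConv (A →ₐ[k] k)) : A →ₐ[k] A := (toConv (AlgHom.id k A) * cst g).ofConv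

lemma cst_mul (g h : WithConv (A →ₐ[k] k)) : cst (g * h) = cst g * cst h := by
  refine WithConv.ext ?_
  exact AlgHom.comp_convMul_distrib _ _ _

lemma cst_one : cst (1 : WithConv (A →ₐ[k] k)) = 1 := rfl

lemma tau_comp (g h : WithConv (A →ₐ[k] k)) : (tau g).comp (tau h) = tau (g * h) := by
  unfold tau
  rw [AlgHom.comp_convMul_distrib, cst_mul, ← mul_assoc]
  congr 2
  exact WithConv.ext (AlgHom.ext fun a => (tau g).commutes _)

lemma tau_one : tau (1 : WithConv (A →ₐ[k] k)) = AlgHom.id k A := by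
  rw [tau, cst_one, mul_one, ofConv_toConv]

lemma comp_tau (h g : WithConv (A →ₐ[k] k)) : toConv (h.ofConv.comp (tau g)) = h * g := by
  refine WithConv.ext ?_
  unfold tau
  rw [ofConv_toConv, AlgHom.comp_convMul_distrib]
  congr 2
  exact WithConv.ext (AlgHom.ext fun a => h.ofConv.commutes _)

lemma tau_apply (g : WithConv (A →ₐ[k] k)) (a : A) :
    tau g a = TensorProduct.rid k A (g.ofConv.toLinearMap.lTensor A (CoalgebraStruct.comul (R := k) a)) := by
  rw [tau, AlgHom.convMul_apply]
  induction CoalgebraStruct.comul (R := k) a using TensorProduct.induction_on with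
  | zero => simp
  | tmul x y => simp [Algebra.smul_def, mul_comm, Algebra.ofId_apply]
  | add x y hx hy => simp only [map_add, hx, hy]

lemma isAssociatedPrime_comap [IsNoetherianRing A] (g : WithConv (A →ₐ[k] k)) {p : Ideal A}
    (hp : p ∈ associatedPrimes A A) : p.comap (tau g) ∈ associatedPrimes A A := by
  rw [AssociatedPrimes.mem_iff, isAssociatedPrime_iff] at hp ⊢
  obtain ⟨hp', x, rfl⟩ := hp
  refine ⟨Ideal.comap_isPrime _ _, tau g⁻¹ x, ?_⟩
  have hinv : ∀ a, tau g⁻¹ (tau g a) = a := fun a => by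
    rw [← AlgHom.comp_apply, tau_comp, inv_mul_cancel, tau_one, AlgHom.id_apply]
  have hinv' : ∀ a, tau g (tau g⁻¹ a) = a := fun a => by
    rw [← AlgHom.comp_apply, tau_comp, mul_inv_cancel, tau_one, AlgHom.id_apply]
  ext r
  simp only [Ideal.mem_comap, Submodule.mem_colon_singleton, Submodule.mem_bot, smul_eq_mul]
  constructor
  · intro h
    have := congrArg (tau g⁻¹) h
    rwa [map_mul, map_zero, hinv] at this
  · intro h
    have := congrArg (tau g) h
    rwa [map_mul, map_zero, hinv'] at this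

/-- Equations of the points whose translation carries `p` back over `q`. -/
def coef (p q : Ideal A) : Ideal A :=
  Ideal.span {a | ∃ f ∈ q, ∃ φ : (A ⧸ p) →ₗ[k] k,
    a = TensorProduct.lid k A ((φ ∘ₗ (Ideal.Quotient.mkₐ k p).toLinearMap).rTensor A (CoalgebraStruct.comul (R := k) f))}

lemma coef_le_ker_iff (p q : Ideal A) (g : WithConv (A →ₐ[k] k)) :
    coef (k := k) p q ≤ RingHom.ker g.ofConv ↔ q ≤ p.comap (tau g) := by
  have key : ∀ (f : A) (φ : (A ⧸ p) →ₗ[k] k),
      g.ofConv (TensorProduct.lid k A ((φ ∘ₗ (Ideal.Quotient.mkₐ k p).toLinearMap).rTensor A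
        (CoalgebraStruct.comul (R := k) f))) = φ (Ideal.Quotient.mk p (tau g f)) := by
    intro f φ
    rw [tau_apply]
    induction CoalgebraStruct.comul (R := k) f using TensorProduct.induction_on with
    | zero => simp
    | tmul x y =>
      simp only [LinearMap.rTensor_tmul, TensorProduct.lid_tmul, LinearMap.lTensor_tmul, TensorProduct.rid_tmul,
        LinearMap.comp_apply, AlgHom.toLinearMap_apply, map_smul, Ideal.Quotient.mkₐ_eq_mk]
      rw [← Ideal.Quotient.mkₐ_eq_mk k, map_smul, map_smul, smul_eq_mul, smul_eq_mul, mul_comm]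
    | add x y hx hy => simp only [map_add, hx, hy]
  constructor
  · intro h f hf
    rw [Ideal.mem_comap, ← Ideal.Quotient.eq_zero_iff_mem, ← Module.forall_dual_apply_eq_zero_iff k]
    intro φ
    rw [← key]
    exact h (Ideal.subset_span ⟨f, hf, φ, rfl⟩)
  · intro h
    refine Ideal.span_le.2 ?_
    rintro _ ⟨f, hf, φ, rfl⟩
    show g.ofConv _ = 0
    rw [key, Ideal.Quotient.eq_zero_iff_mem.2 (Ideal.mem_comap.1 (h hf)), map_zero]

/-- Equations of the points whose translation carries `p` exactly to `q`. -/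
def coefEq (p q : Ideal A) : Ideal A :=
  coef (k := k) p q ⊔ (coef (k := k) q p).map (HopfAlgebra.antipodeAlgHom k A)

lemma coefEq_le_ker_iff (p q : Ideal A) (g : WithConv (A →ₐ[k] k)) :
    coefEq (k := k) p q ≤ RingHom.ker g.ofConv ↔ p.comap (tau g) = q := by
  rw [coefEq, sup_le_iff, coef_le_ker_iff, Ideal.map_le_iff_le_comap,
    show (RingHom.ker g.ofConv).comap (HopfAlgebra.antipodeAlgHom k A) = RingHom.ker (g⁻¹).ofConv from
      RingHom.comap_ker _ _, coef_le_ker_iff]
  have hinv : ∀ a, tau g⁻¹ (tau g a) = a := fun a => by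
    rw [← AlgHom.comp_apply, tau_comp, inv_mul_cancel, tau_one, AlgHom.id_apply]
  have hinv' : ∀ a, tau g (tau g⁻¹ a) = a := fun a => by
    rw [← AlgHom.comp_apply, tau_comp, mul_inv_cancel, tau_one, AlgHom.id_apply]
  constructor
  · rintro ⟨h1, h2⟩
    refine le_antisymm (fun a ha => ?_) h1
    have := h2 ha
    rwa [Ideal.mem_comap, hinv] at this
  · rintro rfl
    refine ⟨le_rfl, fun a ha => ?_⟩
    rwa [Ideal.mem_comap, Ideal.mem_comap, hinv']

variable [IsAlgClosed k] [Algebra.FiniteType k A]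

lemma exists_point (M : Ideal A) [M.IsMaximal] : ∃ g : WithConv (A →ₐ[k] k), RingHom.ker g.ofConv = M := by
  letI : Field (A ⧸ M) := Ideal.Quotient.field M
  have hf : Algebra.FiniteType k (A ⧸ M) := .of_surjective (Ideal.Quotient.mkₐ k M) Ideal.Quotient.mk_surjective
  have : Module.Finite k (A ⧸ M) := finite_of_finite_type_of_isJacobsonRing k (A ⧸ M)
  have hbij := IsAlgClosed.algebraMap_bijective_of_isIntegral (k := k) (K := A ⧸ M)
  refine ⟨toConv ((AlgEquiv.ofBijective (Algebra.ofId k (A ⧸ M)) hbij).symm.toAlgHom.comp (Ideal.Quotient.mkₐ k M)), ?_⟩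
  ext a
  simp [RingHom.mem_ker, Ideal.Quotient.eq_zero_iff_mem]

/-- Every translation fixes every associated prime. -/
theorem comap_tau_eq (hconn : ∀ e : A, IsIdempotentElem e → e = 0 ∨ e = 1) {p : Ideal A}
    (hp : p ∈ associatedPrimes A A) (g : WithConv (A →ₐ[k] k)) : p.comap (tau g) = p := by
  classical
  have : IsNoetherianRing A := Algebra.FiniteType.isNoetherianRing k A
  have : IsJacobsonRing A := isJacobsonRing_of_finiteType (A := k)
  let S := (associatedPrimes.finite A A).toFinset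
  let J : Ideal A := coefEq (k := k) p p
  let K : Ideal A := (S.erase p).inf fun q => coefEq (k := k) p q
  rw [← coefEq_le_ker_iff]
  have hone : J ≤ RingHom.ker (1 : WithConv (A →ₐ[k] k)).ofConv :=
    (coefEq_le_ker_iff p p 1).2 (by rw [tau_one]; exact Ideal.comap_id p)
  have hnot : ∀ M : Ideal A, M.IsMaximal → J ≤ M → ¬ K ≤ M := by
    intro M hM hJ hK
    obtain ⟨h, rfl⟩ := exists_point (k := k) M
    obtain ⟨q, hq, hq'⟩ := (Ideal.IsPrime.inf_le' hM.isPrime).1 hK
    rw [Finset.mem_erase] at hq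
    rw [coefEq_le_ker_iff] at hJ hq'
    exact hq.1 (hq'.symm.trans hJ)
  have hcov : ∀ M : Ideal A, M.IsMaximal → J ≤ M ∨ K ≤ M := by
    intro M hM
    obtain ⟨h, rfl⟩ := exists_point (k := k) M
    by_cases he : p.comap (tau h) = p
    · exact Or.inl ((coefEq_le_ker_iff p p h).2 he)
    · refine Or.inr (le_trans (Finset.inf_le (Finset.mem_erase.2 ⟨he, ?_⟩)) ((coefEq_le_ker_iff p _ h).2 rfl))
      exact (associatedPrimes.finite A A).mem_toFinset.2 (isAssociatedPrime_comap h hp)
  have hcop : J ⊔ K = ⊤ := by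
    by_contra hne
    obtain ⟨M, hM, hle⟩ := Ideal.exists_le_maximal _ hne
    exact hnot M hM (le_sup_left.trans hle) (le_sup_right.trans hle)
  have hnil : ∀ a ∈ J, ∀ b ∈ K, a * b ∈ nilradical A := by
    intro a ha b hb
    have hjac : (nilradical A).jacobson = nilradical A :=
      IsJacobsonRing.out inferInstance (Ideal.radical_isRadical (⊥ : Ideal A))
    rw [← hjac, Ideal.jacobson, Submodule.mem_sInf]
    rintro (M : Ideal A) ⟨-, hM⟩
    rcases hcov M hM with h | h
    · exact Ideal.mul_mem_right _ M (h ha)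
    · exact Ideal.mul_mem_left M _ (h hb)
  obtain ⟨a, ha, b, hb, hab⟩ := Submodule.mem_sup.1 ((Ideal.eq_top_iff_one _).1 hcop)
  obtain ⟨N, hN⟩ := hnil a ha b hb
  replace hN : (a * b) ^ N = 0 := hN
  have hcN : IsCoprime (a ^ N) (b ^ N) := IsCoprime.pow ⟨1, 1, by rw [one_mul, one_mul, hab]⟩
  obtain ⟨x, y, hxy⟩ := hcN
  rw [mul_pow] at hN
  have he : IsIdempotentElem (x * a ^ N) := by
    show x * a ^ N * (x * a ^ N) = x * a ^ N
    linear_combination (x * a ^ N) * hxy - (x * y) * hN
  rcases hconn _ he with h0 | h1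
  · have hbu : IsUnit (b ^ N) := IsUnit.of_mul_eq_one y (by rw [h0, zero_add] at hxy; rw [mul_comm, hxy])
    intro z hz
    have h0 := hnil z hz b hb
    have hzN : z ∈ nilradical A := by
      rcases eq_or_ne N 0 with rfl | hN0
      · rw [pow_zero, pow_zero, one_mul] at hN
        rw [← mul_one z, hN, mul_zero]
        exact zero_mem _
      · obtain ⟨u, hu⟩ := (isUnit_pow_iff hN0).1 hbu
        rw [← hu] at h0
        simpa using (nilradical A).mul_mem_right (↑u⁻¹) h0
    haveI : (RingHom.ker g.ofConv).IsPrime := RingHom.ker_isPrime _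
    exact (nilradical_le_prime (RingHom.ker g.ofConv)) hzN
  · exfalso
    rcases eq_or_ne N 0 with rfl | hN0
    · rw [pow_zero, pow_zero, one_mul] at hN
      have := congrArg (1 : WithConv (A →ₐ[k] k)).ofConv hN
      rw [map_one, map_zero] at this
      exact one_ne_zero this
    · have hu : IsUnit (a ^ N) := IsUnit.of_mul_eq_one x (by rw [mul_comm, h1])
      have := ((isUnit_pow_iff hN0).1 hu).map (1 : WithConv (A →ₐ[k] k)).ofConv
      rw [RingHom.mem_ker.1 (hone ha)] at this
      exact not_isUnit_zero this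

include k in
theorem le_nilradical (hconn : ∀ e : A, IsIdempotentElem e → e = 0 ∨ e = 1) {p : Ideal A}
    (hp : p ∈ associatedPrimes A A) : p ≤ nilradical A := by
  have : IsNoetherianRing A := Algebra.FiniteType.isNoetherianRing k A
  have : IsJacobsonRing A := isJacobsonRing_of_finiteType (A := k)
  have hpp : p.IsPrime := IsAssociatedPrime.isPrime hp
  obtain ⟨M₀, hM₀, hpM⟩ := Ideal.exists_le_maximal p hpp.ne_top
  obtain ⟨h, rfl⟩ := exists_point (k := k) M₀
  intro a ha
  have hjac : (nilradical A).jacobson = nilradical A :=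
    IsJacobsonRing.out inferInstance (Ideal.radical_isRadical (⊥ : Ideal A))
  rw [← hjac, Ideal.jacobson, Submodule.mem_sInf]
  rintro M ⟨-, hM⟩
  obtain ⟨x, rfl⟩ := exists_point (k := k) M
  rw [← comap_tau_eq hconn hp (h⁻¹ * x)] at ha
  have h2 : h.ofConv.comp (tau (h⁻¹ * x)) = x.ofConv := by
    exact (congrArg WithConv.ofConv (comp_tau h (h⁻¹ * x))).trans (by rw [mul_inv_cancel_left])
  show x.ofConv a = 0
  rw [← h2]
  exact hpM ha

theorem iInf_pow_eq_bot (hconn : ∀ e : A, IsIdempotentElem e → e = 0 ∨ e = 1) :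
    (⨅ n : ℕ, RingHom.ker (Bialgebra.counitAlgHom k A) ^ n) = ⊥ := by
  have : IsNoetherianRing A := Algebra.FiniteType.isNoetherianRing k A
  rw [eq_bot_iff]
  intro x hx
  rw [Submodule.mem_bot]
  by_contra hx0
  obtain ⟨⟨r, hr⟩, hrx⟩ := (Ideal.mem_iInf_smul_pow_eq_bot_iff (RingHom.ker (Bialgebra.counitAlgHom k A)) x).1
    (by simpa only [smul_eq_mul, Ideal.mul_top] using hx)
  have hz : (1 - r) ∈ {r : A | ∃ x : A, x ≠ 0 ∧ r • x = 0} := ⟨x, hx0, by
    simp only [smul_eq_mul] at hrx ⊢
    rw [sub_mul, one_mul, hrx, sub_self]⟩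
  rw [← biUnion_associatedPrimes_eq_zero_divisors, Set.mem_iUnion₂] at hz
  obtain ⟨p, hp, hmem⟩ := hz
  have h1 : IsNilpotent (1 - r) := le_nilradical (k := k) hconn hp hmem
  have h2 := h1.map (Bialgebra.counitAlgHom k A)
  rw [map_sub, map_one, RingHom.mem_ker.1 hr, sub_zero] at h2
  exact not_isNilpotent_one h2

end Groth.Agent.HopfKrull
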